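import Mathlib.AlgebraicGeometry.ProjectiveSpectrum.Basic
import Mathlib.RingTheory.MvPolynomial.Homogeneous
import Mathlib.RingTheory.GradedAlgebra.HomogeneousLocalization

/-!
The standard chart of projective space: `R[T]_(Tᵢ) ≅ R[Tⱼ, j ≠ i]`.
-/

set_option autoImplicit false

open MvPolynomial HomogeneousLocalization

universe u v

namespace Groth.Agent.ProjSpace

attribute [local instance] MvPolynomial.gradedAlgebra

variable {σ : Type v} (R : Type u) [CommRing R] (i : σ)

/-- The grading by total degree. -/
abbrev Hom (σ : Type v) (R : Type u) [CommRing R] : ℕ → Submodule R (MvPolynomial σ R) :=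
  homogeneousSubmodule σ R

theorem X_mem (j : σ) : (X j : MvPolynomial σ R) ∈ Hom σ R 1 := isHomogeneous_X R j

/-- `Tⱼ / Tᵢ`. -/
noncomputable def coord (j : σ) : Away (Hom σ R) (X i : MvPolynomial σ R) :=
  HomogeneousLocalization.mk ⟨1, ⟨X j, isHomogeneous_X R j⟩, ⟨X i, isHomogeneous_X R i⟩, ⟨1, pow_one _⟩⟩

/-- The constants. -/
noncomputable def const : R →+* Away (Hom σ R) (X i : MvPolynomial σ R) :=
  (fromZeroRingHom (Hom σ R) (Submonoid.powers (X i))).comp (algebraMap R (Hom σ R 0))

/-- `R[Tⱼ, j ≠ i] → R[T]_(Tᵢ)`. -/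
noncomputable def toAway : MvPolynomial {j : σ // j ≠ i} R →+* Away (Hom σ R) (X i : MvPolynomial σ R) :=
  eval₂Hom (const R i) (fun j => coord R i j.1)

/-- Setting `Tᵢ = 1`. -/
noncomputable def dehom : MvPolynomial σ R →+* MvPolynomial {j : σ // j ≠ i} R := by
  classical
  exact eval₂Hom C (fun j => if h : j = i then 1 else X ⟨j, h⟩)

@[simp] theorem dehom_X_self : dehom R i (X i) = 1 := by simp [dehom]
@[simp] theorem dehom_X (j : {j : σ // j ≠ i}) : dehom R i (X j.1) = X j := by simp [dehom, j.2]
@[simp] theorem dehom_C (r : R) : dehom R i (C r) = C r := by simp [dehom]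

/-- `R[T]_(Tᵢ) → R[Tⱼ, j ≠ i]`. -/
noncomputable def ofAway : Away (Hom σ R) (X i : MvPolynomial σ R) →+* MvPolynomial {j : σ // j ≠ i} R :=
  (IsLocalization.Away.lift (S := Localization.Away (X i : MvPolynomial σ R)) (X i)
    (g := dehom R i) (by simp)).comp
    (algebraMap (Away (Hom σ R) (X i : MvPolynomial σ R)) (Localization.Away (X i : MvPolynomial σ R)))

theorem val_coord (j : σ) :
    (coord R i j).val =
      Localization.mk (X j) (⟨X i, 1, pow_one _⟩ : Submonoid.powers (X i : MvPolynomial σ R)) := by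
  rw [coord, val_mk]

theorem val_const (r : R) :
    (const R i r).val =
      algebraMap (MvPolynomial σ R) (Localization.Away (X i : MvPolynomial σ R)) (C r) := by
  rw [← Localization.mk_one_eq_algebraMap]
  rfl

theorem ofAway_apply (z : Away (Hom σ R) (X i : MvPolynomial σ R)) :
    ofAway R i z = IsLocalization.Away.lift (S := Localization.Away (X i : MvPolynomial σ R)) (X i)
      (g := dehom R i) (by simp) z.val := rfl

theorem ofAway_mk (n : ℕ) (a : MvPolynomial σ R) (ha : a ∈ Hom σ R (n • 1)) :
    ofAway R i (Away.mk (Hom σ R) (X_mem R i) n a ha) = dehom R i a := by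
  have hu : IsUnit (dehom R i (X i)) := by simp
  rw [ofAway_apply, Away.val_mk]
  have h : Localization.mk a (⟨X i ^ n, n, rfl⟩ : Submonoid.powers (X i : MvPolynomial σ R)) *
      algebraMap (MvPolynomial σ R) (Localization.Away (X i : MvPolynomial σ R)) (X i ^ n) =
      algebraMap _ _ a := by
    rw [Localization.mk_eq_mk']
    exact IsLocalization.mk'_spec _ _ _
  have := congr_arg (IsLocalization.Away.lift (S := Localization.Away (X i : MvPolynomial σ R)) (X i) hu) h
  rw [map_mul, IsLocalization.Away.lift_eq, IsLocalization.Away.lift_eq, map_pow, dehom_X_self, one_pow,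
    mul_one] at this
  exact this

theorem toAway_X (j : {j : σ // j ≠ i}) : toAway R i (X j) = coord R i j.1 := eval₂Hom_X' _ _ _
theorem toAway_C (r : R) : toAway R i (C r) = const R i r := eval₂Hom_C _ _ _

theorem ofAway_const (r : R) : ofAway R i (const R i r) = C r := by
  rw [ofAway_apply, val_const, IsLocalization.Away.lift_eq, dehom_C]

theorem coord_eq_mk (j : σ) :
    coord R i j = Away.mk (Hom σ R) (X_mem R i) 1 (X j) (by rw [one_smul]; exact X_mem R j) := by
  refine HomogeneousLocalization.val_injective _ ?_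
  rw [val_coord, Away.val_mk]
  congr 1
  exact Subtype.ext (pow_one _).symm

theorem ofAway_toAway (p : MvPolynomial {j : σ // j ≠ i} R) : ofAway R i (toAway R i p) = p := by
  have : (ofAway R i).comp (toAway R i) = RingHom.id _ := by
    refine MvPolynomial.ringHom_ext (fun r => ?_) fun j => ?_
    · rw [RingHom.comp_apply, toAway_C, ofAway_const]; rfl
    · rw [RingHom.comp_apply, toAway_X, coord_eq_mk, ofAway_mk, dehom_X]; rfl
  exact DFunLike.congr_fun this p

/-- `p ↦ p(Tⱼ / Tᵢ)` on homogeneous `p` is `p / Tᵢⁿ`. -/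
theorem val_toAway_dehom {n : ℕ} {a : MvPolynomial σ R} (ha : a.IsHomogeneous n) :
    (toAway R i (dehom R i a)).val *
        algebraMap (MvPolynomial σ R) (Localization.Away (X i : MvPolynomial σ R)) (X i ^ n) =
      algebraMap _ (Localization.Away (X i : MvPolynomial σ R)) a := by
  classical
  let L := Localization.Away (X i : MvPolynomial σ R)
  let ψ : MvPolynomial σ R →+* L :=
    (algebraMap (Away (Hom σ R) (X i : MvPolynomial σ R)) L).comp ((toAway R i).comp (dehom R i))
  have hC : ∀ r, ψ (C r) = algebraMap (MvPolynomial σ R) L (C r) := fun r => by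
    show (toAway R i (dehom R i (C r))).val = _
    rw [dehom_C, toAway_C, val_const]
  have hX : ∀ j, ψ (X j) * algebraMap (MvPolynomial σ R) L (X i) = algebraMap (MvPolynomial σ R) L (X j) := fun j => by
    by_cases h : j = i
    · subst h
      simp only [ψ, RingHom.comp_apply, dehom_X_self, map_one, one_mul]
    · show (toAway R i (dehom R i (X j))).val * _ = _
      rw [show dehom R i (X j) = X ⟨j, h⟩ from dehom_X R i ⟨j, h⟩, toAway_X, val_coord,
        Localization.mk_eq_mk']
      exact IsLocalization.mk'_spec L (X j) (⟨X i, 1, pow_one _⟩ : Submonoid.powers (X i : MvPolynomial σ R))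
  show ψ a * _ = _
  rw [as_sum a, map_sum, map_sum, Finset.sum_mul]
  refine Finset.sum_congr rfl fun d hd => ?_
  have hdn : ∑ j ∈ d.support, d j = n := by
    rw [← Finsupp.degree_apply]
    by_contra hne
    exact (mem_support_iff.1 hd) (ha.coeff_eq_zero hne)
  rw [monomial_eq, map_mul, map_mul, hC, Finsupp.prod, map_prod, map_prod, mul_assoc]
  congr 1
  rw [← hdn, ← Finset.prod_pow_eq_pow_sum, map_prod, ← Finset.prod_mul_distrib]
  refine Finset.prod_congr rfl fun j _ => ?_
  rw [map_pow, map_pow, map_pow, ← mul_pow, hX]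

theorem toAway_ofAway (z : Away (Hom σ R) (X i : MvPolynomial σ R)) : toAway R i (ofAway R i z) = z := by
  obtain ⟨n, a, ha, rfl⟩ := Away.mk_surjective (Hom σ R) (X_mem R i) z
  refine HomogeneousLocalization.val_injective _ ?_
  rw [ofAway_mk, Away.val_mk, Localization.mk_eq_mk', IsLocalization.eq_mk'_iff_mul_eq]
  have := val_toAway_dehom R i (n := n) (a := a) (by rw [← mem_homogeneousSubmodule]; simpa using ha)
  exact this

theorem toAway_bijective : Function.Bijective (toAway R i) :=
  Function.bijective_iff_has_inverse.2 ⟨ofAway R i, ofAway_toAway R i, toAway_ofAway R i⟩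

/-- `R[Tⱼ, j ≠ i] ≅ R[T]_(Tᵢ)`. -/
noncomputable def chartEquiv :
    MvPolynomial {j : σ // j ≠ i} R ≃+* Away (Hom σ R) (X i : MvPolynomial σ R) :=
  { toAway R i with
    invFun := ofAway R i
    left_inv := ofAway_toAway R i
    right_inv := toAway_ofAway R i }

theorem chartEquiv_apply (p : MvPolynomial {j : σ // j ≠ i} R) : chartEquiv R i p = toAway R i p := rfl

end Groth.Agent.ProjSpace
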