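import Groth.Prelude.Def_CohB1
import Groth.Agent.Lib.ProjSpace.Chart
import Mathlib.AlgebraicGeometry.Morphisms.Smooth
import Mathlib.AlgebraicGeometry.ProjectiveSpectrum.Proper
import Mathlib.RingTheory.RingHom.Smooth
import Mathlib.RingTheory.Smooth.StandardSmooth
import Mathlib.RingTheory.MvPolynomial.Ideal

/-!
Basic properties of `CohB1.ProjSpace n R` and `CohB1.ProjSpaceOver n S`.
-/

set_option autoImplicit false

open CategoryTheory CategoryTheory.Limits AlgebraicGeometry MvPolynomial HomogeneousLocalization

universe u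

namespace Groth.Agent.ProjSpace

section Algebra

/-- A polynomial ring in `n` variables is standard smooth of relative dimension `n`. -/
theorem isStandardSmoothOfRelativeDimension_mvPolynomial (R : Type u) [CommRing R] {σ : Type}
    [Finite σ] :
    Algebra.IsStandardSmoothOfRelativeDimension (Nat.card σ) R (MvPolynomial σ R) := by
  let P : Algebra.SubmersivePresentation R (MvPolynomial σ R) σ PEmpty.{1} :=
    { Algebra.Generators.mvPolynomial R σ with
      relation := PEmpty.elim
      span_range_relation_eq_ker := by
        simp only [Set.range_eq_empty, Ideal.span_empty]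
        symm
        refine (RingHom.injective_iff_ker_eq_bot _).1 ?_
        intro a b h
        have h' : aeval (X : σ → MvPolynomial σ R) a = aeval X b := h
        exact ((aeval_X_left_apply a).symm.trans h').trans (aeval_X_left_apply b)
      map := PEmpty.elim
      map_inj := fun a => a.elim
      jacobian_isUnit := by
        rw [Algebra.PreSubmersivePresentation.jacobian_eq_jacobiMatrix_det, RingHom.map_det]
        rw [Matrix.det_isEmpty]
        exact isUnit_one }
  refine P.isStandardSmoothOfRelativeDimension ?_
  simp [Algebra.Presentation.dimension]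

end Algebra

variable (n : ℕ) (R : Type u) [CommRing R]


theorem X_mem' (i : Fin (n + 1)) : (X i : MvPolynomial (Fin (n + 1)) R) ∈ (CohB1.polyGrading n R) 1 := isHomogeneous_X R i

theorem algebraMap_degZero_bijective : Function.Bijective (algebraMap R ((CohB1.polyGrading n R) 0)) := by
  refine ⟨fun r s h => C_injective _ R (congr_arg Subtype.val h), fun x => ?_⟩
  have hx : (x : MvPolynomial (Fin (n + 1)) R) ∈ homogeneousSubmodule (Fin (n + 1)) R 0 := x.2
  rw [homogeneousSubmodule_zero, Submodule.mem_one] at hx
  obtain ⟨r, hr⟩ := hx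
  exact ⟨r, Subtype.ext hr⟩

instance isScalarTower_degZero :
    IsScalarTower R ((CohB1.polyGrading n R) 0) (MvPolynomial (Fin (n + 1)) R) :=
  IsScalarTower.of_algebraMap_eq (R := R) (S := (CohB1.polyGrading n R) 0)
    (A := MvPolynomial (Fin (n + 1)) R) fun _ => rfl

instance finiteType_degZero : Algebra.FiniteType ((CohB1.polyGrading n R) 0) (MvPolynomial (Fin (n + 1)) R) :=
  Algebra.FiniteType.of_restrictScalars_finiteType R ((CohB1.polyGrading n R) 0) _

instance isIso_spec_degZero : IsIso (Spec.map (CommRingCat.ofHom (algebraMap R ((CohB1.polyGrading n R) 0)))) := by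
  have : IsIso (CommRingCat.ofHom (algebraMap R ((CohB1.polyGrading n R) 0))) :=
    (ConcreteCategory.isIso_iff_bijective _).2 (algebraMap_degZero_bijective n R)
  infer_instance

instance isProper_toSpec : IsProper (CohB1.ProjSpace.toSpec n R) :=
  MorphismProperty.comp_mem @IsProper (Proj.toSpecZero (CohB1.polyGrading n R))
    (Spec.map (CommRingCat.ofHom (algebraMap R ((CohB1.polyGrading n R) 0)))) inferInstance inferInstance

/-- The chart `D₊(Tᵢ)`. -/
noncomputable def chartP (i : Fin (n + 1)) :
    Spec (CommRingCat.of (MvPolynomial {j : Fin (n + 1) // j ≠ i} R)) ⟶ Proj (CohB1.polyGrading n R) :=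
  Spec.map (CommRingCat.ofHom (chartEquiv R i).symm.toRingHom) ≫
    Proj.awayι (CohB1.polyGrading n R) (X i) (X_mem' n R i) Nat.one_pos

/-- The chart `D₊(Tᵢ)`, as a morphism into `ProjSpace`. -/
noncomputable def chart (i : Fin (n + 1)) :
    Spec (CommRingCat.of (MvPolynomial {j : Fin (n + 1) // j ≠ i} R)) ⟶ CohB1.ProjSpace n R :=
  chartP n R i

instance isIso_spec_chartEquiv (i : Fin (n + 1)) :
    IsIso (Spec.map (CommRingCat.ofHom (chartEquiv R i).symm.toRingHom)) := by
  have : IsIso (CommRingCat.ofHom (chartEquiv R i).symm.toRingHom) :=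
    (ConcreteCategory.isIso_iff_bijective _).2 (chartEquiv R i).symm.bijective
  infer_instance

instance isOpenImmersion_chartP (i : Fin (n + 1)) : IsOpenImmersion (chartP n R i) := by
  unfold chartP
  infer_instance

instance isOpenImmersion_chart (i : Fin (n + 1)) : IsOpenImmersion (chart n R i) :=
  isOpenImmersion_chartP n R i

theorem opensRange_chart (i : Fin (n + 1)) :
    (chart n R i).opensRange = Proj.basicOpen (CohB1.polyGrading n R) (X i) := by
  show (chartP n R i).opensRange = _
  exact (Scheme.Hom.opensRange_comp_of_isIso _ _).trans (Proj.opensRange_awayι _ _ _ _)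

theorem irrelevant_le_span :
    (HomogeneousIdeal.irrelevant (CohB1.polyGrading n R)).toIdeal ≤
      Ideal.span (Set.range fun i : Fin (n + 1) => (X i : MvPolynomial (Fin (n + 1)) R)) := by
  rw [HomogeneousIdeal.toIdeal_irrelevant_le]
  intro k hk a ha
  show a ∈ Ideal.span _
  rw [show (Set.range fun i : Fin (n + 1) => (X i : MvPolynomial (Fin (n + 1)) R)) = X '' Set.univ from
    Set.image_univ.symm, MvPolynomial.mem_ideal_span_X_image]
  intro m hm
  have hdeg : m.degree = k := by
    by_contra hne
    exact (mem_support_iff.1 hm) (IsHomogeneous.coeff_eq_zero ha hne)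
  have hne : m ≠ 0 := by rintro rfl; rw [map_zero] at hdeg; omega
  obtain ⟨i, hi⟩ := Finsupp.ne_iff.1 hne
  exact ⟨i, trivial, hi⟩

theorem iSup_basicOpen : (⨆ i : Fin (n + 1), Proj.basicOpen (CohB1.polyGrading n R) (X i)) = ⊤ :=
  Proj.iSup_basicOpen_eq_top (CohB1.polyGrading n R) _ (irrelevant_le_span n R)

theorem exists_mem_chart (x : CohB1.ProjSpace n R) : ∃ i, x ∈ (chart n R i).opensRange := by
  have : x ∈ (⨆ i : Fin (n + 1), Proj.basicOpen (CohB1.polyGrading n R) (X i)) := by rw [iSup_basicOpen]; trivial
  obtain ⟨i, hi⟩ := TopologicalSpace.Opens.mem_iSup.1 this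
  exact ⟨i, by rw [opensRange_chart]; exact hi⟩

/-- The cover by the standard charts. -/
noncomputable def cover : (CohB1.ProjSpace n R).OpenCover :=
  Scheme.Cover.mkOfCovers (ULift.{u} (Fin (n + 1)))
    (fun i => Spec (CommRingCat.of (MvPolynomial {j : Fin (n + 1) // j ≠ i.down} R)))
    (fun i => chart n R i.down)
    (fun x => by
      obtain ⟨i, hi⟩ := exists_mem_chart n R x
      exact ⟨⟨i⟩, hi⟩)

@[reassoc]
theorem chart_toSpec (i : Fin (n + 1)) :
    chart n R i ≫ CohB1.ProjSpace.toSpec n R = Spec.map (CommRingCat.ofHom C) := by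
  show chartP n R i ≫ Proj.toSpecZero (CohB1.polyGrading n R) ≫
    Spec.map (CommRingCat.ofHom (algebraMap R ((CohB1.polyGrading n R) 0))) = _
  unfold chartP
  rw [Category.assoc, Proj.awayι_toSpecZero_assoc, ← Spec.map_comp,
    ← Spec.map_comp, ← CommRingCat.ofHom_comp, ← CommRingCat.ofHom_comp]
  congr 2
  ext1 r
  exact ofAway_const R i r

theorem smoothOfRelativeDimension_toSpec :
    SmoothOfRelativeDimension n (CohB1.ProjSpace.toSpec n R) := by
  have : IsZariskiLocalAtSource (@SmoothOfRelativeDimension n) :=
    HasRingHomProperty.instIsZariskiLocalAtSource (P := @SmoothOfRelativeDimension n)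
      (Q := RingHom.Locally (RingHom.IsStandardSmoothOfRelativeDimension n))
  refine IsZariskiLocalAtSource.of_openCover (P := @SmoothOfRelativeDimension n) (cover n R) fun i => ?_
  show SmoothOfRelativeDimension n (chart n R i.down ≫ _)
  rw [chart_toSpec, HasRingHomProperty.Spec_iff (P := @SmoothOfRelativeDimension n)]
  refine RingHom.locally_of RingHom.isStandardSmoothOfRelativeDimension_respectsIso _ ?_
  have h := isStandardSmoothOfRelativeDimension_mvPolynomial R (σ := {j : Fin (n + 1) // j ≠ i.down})
  rw [Nat.card_eq_fintype_card, Fintype.card_subtype_compl, Fintype.card_fin, Fintype.card_subtype_eq,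
    Nat.add_sub_cancel] at h
  exact (RingHom.isStandardSmoothOfRelativeDimension_algebraMap n).2 h

instance smooth_toSpec : Smooth (CohB1.ProjSpace.toSpec n R) :=
  (smoothOfRelativeDimension_toSpec n R).smooth

instance surjective_toSpec : Surjective (CohB1.ProjSpace.toSpec n R) := by
  refine ⟨fun x => ⟨(chart n R 0).base ((Spec.map (CommRingCat.ofHom (constantCoeff
    (R := R) (σ := {j : Fin (n + 1) // j ≠ (0 : Fin (n + 1))})))).base x), ?_⟩⟩
  rw [← Scheme.Hom.comp_apply, chart_toSpec, ← Scheme.Hom.comp_apply, ← Spec.map_comp,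
    ← CommRingCat.ofHom_comp, constantCoeff_comp_C]
  simp

section Over

variable (S : Scheme.{u})

instance isProper_toBase : IsProper (CohB1.ProjSpaceOver.toBase n S) :=
  MorphismProperty.of_isPullback (P := @IsProper) (IsPullback.of_hasPullback _ _) (isProper_toSpec n _)

theorem smoothOfRelativeDimension_toBase :
    SmoothOfRelativeDimension n (CohB1.ProjSpaceOver.toBase n S) :=
  have := smoothOfRelativeDimension_isStableUnderBaseChange (n := n)
  MorphismProperty.of_isPullback (P := @SmoothOfRelativeDimension n) (IsPullback.of_hasPullback _ _)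
    (smoothOfRelativeDimension_toSpec n _)

instance smooth_toBase : Smooth (CohB1.ProjSpaceOver.toBase n S) :=
  (smoothOfRelativeDimension_toBase n S).smooth

instance surjective_toBase : Surjective (CohB1.ProjSpaceOver.toBase n S) :=
  MorphismProperty.of_isPullback (P := @Surjective) (IsPullback.of_hasPullback _ _) (surjective_toSpec n _)

end Over

end Groth.Agent.ProjSpace
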