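import Groth.Agent.Lib.ProjSpace.Basic
import Groth.Agent.Lib.EGA2.ProjBaseChange
import Mathlib.RingTheory.TensorProduct.MvPolynomial

/-!
Base change of projective space, and `P^n` over an affine scheme.
-/

set_option autoImplicit false

open CategoryTheory CategoryTheory.Limits AlgebraicGeometry MvPolynomial

universe u

namespace Groth.Agent.ProjSpace

variable (n : ℕ) {R S : Type u} [CommRing R] [CommRing S] (f : R →+* S)

/-- The coefficient change as a graded homomorphism. -/
noncomputable def mapHom : CohB1.polyGrading n R →+*ᵍ CohB1.polyGrading n S where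
  __ := MvPolynomial.map f
  map_mem h := IsHomogeneous.map h f

theorem mapHom_apply (p : MvPolynomial (Fin (n + 1)) R) : mapHom n f p = MvPolynomial.map f p := rfl

theorem mapHom_X (i : Fin (n + 1)) : mapHom n f (X i) = X i := by rw [mapHom_apply, map_X]

theorem irrelevant_le_map :
    HomogeneousIdeal.irrelevant (CohB1.polyGrading n S) ≤
      (HomogeneousIdeal.irrelevant (CohB1.polyGrading n R)).map (mapHom n f) := by
  rw [← toIdeal_le_toIdeal_iff, HomogeneousIdeal.toIdeal_map]
  refine (irrelevant_le_span n S).trans (Ideal.span_le.2 ?_)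
  rintro _ ⟨i, rfl⟩
  refine (congrArg (· ∈ _) (mapHom_X n f i)).mp (Ideal.mem_map_of_mem _ ?_)
  exact (HomogeneousIdeal.mem_irrelevant_of_mem _ Nat.one_pos (X_mem' n R i))

/-- Functoriality in the base ring. -/
noncomputable def map : CohB1.ProjSpace n S ⟶ CohB1.ProjSpace n R :=
  Proj.map (mapHom n f) (irrelevant_le_map n f)

theorem isPullback_map :
    IsPullback (map n f) (CohB1.ProjSpace.toSpec n S) (CohB1.ProjSpace.toSpec n R)
      (Spec.map (CommRingCat.ofHom f)) := by
  letI : Algebra R S := f.toAlgebra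
  letI : Algebra (MvPolynomial (Fin (n + 1)) R) (MvPolynomial (Fin (n + 1)) S) :=
    MvPolynomial.algebraMvPolynomial
  exact Groth.Agent.EGA2.isPullback_proj (CohB1.polyGrading n R) (CohB1.polyGrading n S) (mapHom n f)
    (fun _ => rfl) (irrelevant_le_map n f)

/-- `ULift ℤ → R`. -/
noncomputable def fromZ (R : Type u) [CommRing R] : ULift.{u} ℤ →+* R :=
  (Int.castRingHom R).comp ULift.ringEquiv.toRingHom

theorem spec_from_eq (R : Type u) [CommRing R] :
    specULiftZIsTerminal.from (Spec (CommRingCat.of R)) = Spec.map (CommRingCat.ofHom (fromZ R)) :=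
  specULiftZIsTerminal.hom_ext _ _

/-- `P^n_{Spec R}` is `P^n_R`. -/
noncomputable def overSpecIso (R : Type u) [CommRing R] :
    CohB1.ProjSpace n R ≅ CohB1.ProjSpaceOver n (Spec (CommRingCat.of R)) :=
  IsPullback.isoPullback (h := (by
    rw [spec_from_eq]
    exact isPullback_map n (fromZ R) :
    IsPullback (map n (fromZ R)) (CohB1.ProjSpace.toSpec n R)
      (CohB1.ProjSpace.toSpec n (ULift.{u} ℤ)) (specULiftZIsTerminal.from (Spec (CommRingCat.of R)))))

@[reassoc]
theorem overSpecIso_hom_toBase (R : Type u) [CommRing R] :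
    (overSpecIso n R).hom ≫ CohB1.ProjSpaceOver.toBase n (Spec (CommRingCat.of R)) =
      CohB1.ProjSpace.toSpec n R :=
  IsPullback.isoPullback_hom_snd _

@[reassoc]
theorem overSpecIso_hom_fst (R : Type u) [CommRing R] :
    (overSpecIso n R).hom ≫ pullback.fst (CohB1.ProjSpace.toSpec n (ULift.{u} ℤ))
      (specULiftZIsTerminal.from (Spec (CommRingCat.of R))) = map n (fromZ R) :=
  IsPullback.isoPullback_hom_fst _

/-- The base-change square of `P^n_S` along `g : T ⟶ S`. -/
noncomputable def overMap {T S : Scheme.{u}} (g : T ⟶ S) :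
    CohB1.ProjSpaceOver n T ⟶ CohB1.ProjSpaceOver n S :=
  pullback.map _ _ _ _ (𝟙 _) g (𝟙 _) (by simp) (specULiftZIsTerminal.hom_ext _ _)

theorem isPullback_overMap {T S : Scheme.{u}} (g : T ⟶ S) :
    IsPullback (overMap n g) (CohB1.ProjSpaceOver.toBase n T) (CohB1.ProjSpaceOver.toBase n S) g := by
  refine IsPullback.of_right (h₁₂ := pullback.fst _ _) (v₁₃ := CohB1.ProjSpace.toSpec n (ULift.{u} ℤ))
    (h₂₂ := specULiftZIsTerminal.from S) ?_ (pullback.lift_snd _ _ _) (IsPullback.of_hasPullback _ _)
  have h1 : overMap n g ≫ pullback.fst (CohB1.ProjSpace.toSpec n (ULift.{u} ℤ))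
      (specULiftZIsTerminal.from S) = pullback.fst _ (specULiftZIsTerminal.from T) :=
    (pullback.lift_fst _ _ _).trans (Category.comp_id _)
  have h2 : g ≫ specULiftZIsTerminal.from S = specULiftZIsTerminal.from T :=
    specULiftZIsTerminal.hom_ext _ _
  refine IsPullback.of_iso (IsPullback.of_hasPullback (CohB1.ProjSpace.toSpec n (ULift.{u} ℤ))
    (specULiftZIsTerminal.from T)) (Iso.refl _) (Iso.refl _) (Iso.refl _) (Iso.refl _) ?_ ?_ ?_ ?_
  · exact (Category.comp_id _).trans (h1.symm.trans (Category.id_comp _).symm)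
  · exact (Category.comp_id _).trans (Category.id_comp _).symm
  · exact (Category.comp_id _).trans (Category.id_comp _).symm
  · exact (Category.comp_id _).trans (h2.symm.trans (Category.id_comp _).symm)

end Groth.Agent.ProjSpace
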